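import Mathlib
import Cfsg.Prelude.Def_LieClassical
import Cfsg.Agent.Lib.Unitary.FieldNorm

/-! Conjugacy in the finite general unitary group against conjugacy in the general linear group. -/

set_option autoImplicit false

namespace CfsgLib.Unitary.Conj

theorem hilbert90 {R : Type*} [CommRing R] [Finite R] (σ : R →+* R) (hinv : ∀ x, σ (σ x) = x)
    (lam : R) (hlam : IsUnit (σ lam - lam)) (x : Rˣ) (hx1 : σ (x : R) * x = 1) :
    ∃ y : Rˣ, (y : R) = x * σ (y : R) := by
  classical
  let MS := {M : Ideal R // M.IsMaximal}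
  haveI : Finite (Ideal R) := Finite.of_injective (fun I : Ideal R => (I : Set R)) SetLike.coe_injective
  let N : MS → MS := fun M => ⟨M.1.comap σ, Ideal.comap_isMaximal_of_surjective σ (fun y => ⟨σ y, hinv y⟩) (H := M.2)⟩
  have hNN : ∀ M, N (N M) = M := fun M => Subtype.ext (by
    show (M.1.comap σ).comap σ = M.1
    ext y
    simp [Ideal.mem_comap, hinv])
  obtain ⟨k, ⟨e⟩⟩ := Finite.exists_equiv_fin MS
  let f : MS → R := fun M =>
    if N M = M then (if 1 + (x : R) ∈ M.1 then lam else 1) else (if e M < e (N M) then 1 else 0)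
  have hc : Pairwise fun i j : MS => IsCoprime i.1 j.1 := fun i j hij =>
    Ideal.isCoprime_iff_sup_eq.2 (i.2.coprime_of_ne j.2 (fun h => hij (Subtype.ext h)))
  obtain ⟨a', ha'⟩ := Ideal.quotientInfToPiQuotient_surj hc (fun M => Ideal.Quotient.mk _ (f M))
  obtain ⟨a, rfl⟩ := Ideal.Quotient.mk_surjective a'
  have ha : ∀ M : MS, a - f M ∈ M.1 := fun M => Ideal.Quotient.eq.1 (congrFun ha' M)
  have hy : IsUnit (a + (x : R) * σ a) := by
    by_contra hnu
    obtain ⟨M, hM, hyM⟩ := exists_max_ideal_of_mem_nonunits hnu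
    let m : MS := ⟨M, hM⟩
    have h1 : a - f m ∈ M := ha m
    have h2 : σ (a - f (N m)) ∈ M := ha (N m)
    have h3 : f m + (x : R) * σ (f (N m)) ∈ M := by
      have h4 : f m + (x : R) * σ (f (N m)) = (a + x * σ a) - (a - f m) - x * σ (a - f (N m)) := by rw [map_sub]; ring
      rw [h4]
      exact M.sub_mem (M.sub_mem hyM h1) (M.mul_mem_left _ h2)
    have hxM : (x : R) ∉ M := fun h => hM.ne_top (M.eq_top_of_isUnit_mem h x.isUnit)
    have h1M : (1 : R) ∉ M := fun h => hM.ne_top ((Ideal.eq_top_iff_one M).2 h)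
    by_cases hN : N m = m
    · rw [hN] at h3
      simp only [f, if_pos hN] at h3
      by_cases h1x : 1 + (x : R) ∈ M
      · rw [if_pos h1x] at h3
        apply hM.ne_top (M.eq_top_of_isUnit_mem ?_ hlam)
        have h5 : (x : R) * (σ lam - lam) = (lam + x * σ lam) - lam * (1 + x) := by ring
        have h6 : (x : R) * (σ lam - lam) ∈ M := h5 ▸ M.sub_mem h3 (M.mul_mem_left _ h1x)
        exact (hM.isPrime.mem_or_mem h6).resolve_left hxM
      · rw [if_neg h1x, map_one, mul_one] at h3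
        exact h1x h3
    · simp only [f, hNN, if_neg hN, if_neg (Ne.symm hN)] at h3
      by_cases hlt : e m < e (N m)
      · rw [if_pos hlt, if_neg (not_lt.2 hlt.le), map_zero, mul_zero, add_zero] at h3
        exact h1M h3
      · have hgt : e (N m) < e m := lt_of_le_of_ne (not_lt.1 hlt) (fun h => hN (e.injective h))
        rw [if_neg hlt, if_pos hgt, map_one, zero_add, mul_one] at h3
        exact hxM h3
  refine ⟨hy.unit, ?_⟩
  rw [IsUnit.unit_spec, map_add, map_mul, hinv]
  linear_combination (-a) * hx1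

theorem norm_surj {R : Type*} [CommRing R] [Finite R] (σ : R →+* R) (hinv : ∀ x, σ (σ x) = x)
    (lam : R) (hlam : IsUnit (σ lam - lam)) (u : Rˣ) (hu : σ (u : R) = u) : ∃ c : Rˣ, σ (c : R) * c = u := by
  classical
  let S : Rˣ →* Rˣ := Units.map σ.toMonoidHom
  let τ : Rˣ →* Rˣ := MonoidHom.mk' (fun y => y * (S y)⁻¹) (fun a b => by
    rw [map_mul, mul_inv]; exact mul_mul_mul_comm a b _ _)
  let ν : Rˣ →* Rˣ := MonoidHom.mk' (fun y => S y * y) (fun a b => by
    rw [map_mul]; exact mul_mul_mul_comm _ _ a b)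
  have hSS : ∀ y, S (S y) = y := fun y => Units.ext (hinv y)
  have hνle : ν.range ≤ τ.ker := by
    rintro _ ⟨y, rfl⟩
    rw [MonoidHom.mem_ker]
    show S y * y * (S (S y * y))⁻¹ = 1
    rw [map_mul, hSS, mul_comm y (S y), mul_inv_cancel]
  have h90 : ν.ker ≤ τ.range := by
    intro x hx
    obtain ⟨y, hy⟩ := hilbert90 σ hinv lam hlam x (congrArg Units.val (show S x * x = 1 from hx))
    refine ⟨y, ?_⟩
    show y * (S y)⁻¹ = x
    rw [mul_inv_eq_iff_eq_mul]
    exact Units.ext hy
  have hτν : τ.range ≤ ν.ker := by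
    rintro _ ⟨y, rfl⟩
    rw [MonoidHom.mem_ker]
    show S (y * (S y)⁻¹) * (y * (S y)⁻¹) = 1
    rw [map_mul, map_inv, hSS, mul_assoc, inv_mul_cancel_left, mul_inv_cancel]
  have hcard : Nat.card τ.ker ≤ Nat.card ν.range := by
    have h1 := Subgroup.card_mul_index ν.ker
    have h2 := Subgroup.card_mul_index τ.ker
    rw [Subgroup.index_ker] at h1 h2
    rw [le_antisymm h90 hτν] at h1
    have hpos : 0 < Nat.card τ.range := Nat.card_pos
    exact Nat.le_of_mul_le_mul_left (show Nat.card τ.range * Nat.card τ.ker ≤ Nat.card τ.range * Nat.card ν.range by rw [h1, mul_comm, h2]) hpos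
  have hmem : u ∈ τ.ker := by
    rw [MonoidHom.mem_ker]
    show u * (S u)⁻¹ = 1
    rw [mul_inv_eq_one]
    exact Units.ext hu.symm
  rw [← Subgroup.eq_of_le_of_card_ge hνle hcard] at hmem
  obtain ⟨c, hc⟩ := hmem
  exact ⟨c, congrArg Units.val hc⟩

variable {K : Type*} [Field K] {n : ℕ}

local notation "M" => Matrix (Fin n) (Fin n) K

/-- The conjugate transpose along a ring endomorphism. -/
def adj (κ : K →+* K) (X : M) : M := (X.map κ).transpose

theorem adj_mul (κ : K →+* K) (X Y : M) : adj κ (X * Y) = adj κ Y * adj κ X := by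
  simp only [adj, Matrix.map_mul, Matrix.transpose_mul]

theorem adj_add (κ : K →+* K) (X Y : M) : adj κ (X + Y) = adj κ X + adj κ Y := by
  ext i j; simp [adj]

theorem adj_sub (κ : K →+* K) (X Y : M) : adj κ (X - Y) = adj κ X - adj κ Y := by
  ext i j; simp [adj]

theorem adj_zero (κ : K →+* K) : adj κ (0 : M) = 0 := by
  ext i j; simp [adj]

theorem adj_adj {κ : K →+* K} (hκ : ∀ x, κ (κ x) = x) (X : M) : adj κ (adj κ X) = X := by
  ext i j; simp [adj, hκ]

theorem adj_algebraMap (κ : K →+* K) (c : K) : adj κ (algebraMap K M c) = algebraMap K M (κ c) := by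
  simp only [adj, Matrix.algebraMap_eq_diagonal, Matrix.diagonal_map (map_zero κ), Matrix.diagonal_transpose]
  rfl

theorem adj_one (κ : K →+* K) : adj κ (1 : M) = 1 := by
  have := adj_algebraMap (n := n) κ 1
  rwa [map_one, map_one, map_one] at this

theorem adj_pow (κ : K →+* K) (X : M) (k : ℕ) : adj κ (X ^ k) = adj κ X ^ k := by
  induction k with
  | zero => rw [pow_zero, pow_zero, adj_one]
  | succ k ih => rw [pow_succ, adj_mul, ih, pow_succ']

theorem det_adj (κ : K →+* K) (X : M) : (adj κ X).det = κ X.det := by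
  show ((κ.mapMatrix X).transpose).det = _
  rw [Matrix.det_transpose, ← RingHom.map_det]

theorem isUnit_adj (κ : K →+* K) {X : M} (h : IsUnit X) : IsUnit (adj κ X) := by
  rw [Matrix.isUnit_iff_isUnit_det, det_adj]
  exact ((Matrix.isUnit_iff_isUnit_det _).1 h).map κ

variable [Fintype K]

theorem mem_GU {q : ℕ} (hK : Fintype.card K = q ^ 2) {κ : K →+* K} (hκ : ∀ x, κ x = x ^ q) (g : GL (Fin n) K) :
    g ∈ Cfsg.GU n K q ↔ adj κ (g : M) * (g : M) = 1 := by
  classical
  have hH : ∀ u v : Fin n → K, Cfsg.hermForm n K q ((g : M).mulVec u) ((g : M).mulVec v) =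
      ∑ a, ∑ b, u a * ((adj κ (g : M) * (g : M)) b a) * κ (v b) := by
    intro u v
    simp only [Cfsg.hermForm, ← hκ, Matrix.mulVec, dotProduct, map_sum, map_mul, adj, Matrix.mul_apply,
      Matrix.transpose_apply, Matrix.map_apply, Finset.mul_sum, Finset.sum_mul]
    rw [Finset.sum_comm]
    conv_rhs => rw [Finset.sum_comm]
    refine Finset.sum_congr rfl fun b _ => ?_
    rw [Finset.sum_comm]
    exact Finset.sum_congr rfl fun a _ => Finset.sum_congr rfl fun i _ => by ring
  have hq0 : q ≠ 0 := by have := CfsgLib.Unitary.FieldNorm.two_le_q hK; omega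
  constructor
  · intro h
    ext b a
    have := h (Pi.single a 1) (Pi.single b 1)
    rw [show (Units.coeHom M g) = (g : M) from rfl, hH] at this
    rw [Finset.sum_eq_single a (fun x _ hx => Finset.sum_eq_zero fun y _ => by simp [hx]) (by simp),
      Finset.sum_eq_single b (fun y _ hy => by simp [hy]) (by simp), Pi.single_eq_same, Pi.single_eq_same,
      map_one, one_mul, mul_one] at this
    rw [this, Matrix.one_apply, Cfsg.hermForm]
    rcases eq_or_ne b a with rfl | hne
    · simp [Pi.single_apply, hq0]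
    · simp [Pi.single_apply, hne, hne.symm, hq0]
  · intro h u v
    show Cfsg.hermForm n K q ((g : M).mulVec u) ((g : M).mulVec v) = _
    rw [hH, h]
    simp [Cfsg.hermForm, Matrix.one_apply, hκ]

theorem exists_moved {q : ℕ} (hK : Fintype.card K = q ^ 2) {κ : K →+* K} (hκ : ∀ x, κ x = x ^ q) :
    ∃ l : K, κ l ≠ l := by
  classical
  by_contra hall
  push Not at hall
  have h2 := CfsgLib.Unitary.FieldNorm.two_le_q hK
  have hcard := Polynomial.card_le_degree_of_subset_roots (p := (Polynomial.X ^ q - Polynomial.X : Polynomial K)) (Z := Finset.univ) (by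
    intro x _
    rw [Polynomial.mem_roots (FiniteField.X_pow_card_sub_X_ne_zero K (show 1 < q by omega))]
    simp [Polynomial.IsRoot, ← hκ, hall x])
  rw [Finset.card_univ, FiniteField.X_pow_card_sub_X_natDegree_eq _ (show 1 < q by omega), hK] at hcard
  nlinarith

omit [Fintype K] in
theorem commute_of_mem {h : M} {x : M} (hx : x ∈ Algebra.adjoin K ({h} : Set M)) {y : M} (hy : h * y = y * h) :
    x * y = y * x := by
  induction hx using Algebra.adjoin_induction with
  | mem z hz => rw [Set.mem_singleton_iff.1 hz]; exact hy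
  | algebraMap c => exact Algebra.commutes c y
  | add z w _ _ hz hw => rw [add_mul, mul_add, hz, hw]
  | mul z w _ _ hz hw => rw [mul_assoc, hw, ← mul_assoc, hz, mul_assoc]

/-- An invertible Hermitian matrix is `c† c` for some `c` in the algebra it generates. -/
theorem exists_sqrt {κ : K →+* K} (hκκ : ∀ x, κ (κ x) = x) (hl : ∃ l : K, κ l ≠ l) {h : M} (hadj : adj κ h = h)
    (hu : IsUnit h) : ∃ c : GL (Fin n) K, adj κ (c : M) * (c : M) = h ∧
      ∀ y : M, h * y = y * h → (c : M) * y = y * (c : M) := by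
  classical
  let S := Algebra.adjoin K ({h} : Set M)
  have hSmem : ∀ x ∈ S, adj κ x ∈ S := by
    intro x hx
    induction hx using Algebra.adjoin_induction with
    | mem z hz => rw [Set.mem_singleton_iff.1 hz, hadj]; exact Algebra.subset_adjoin rfl
    | algebraMap c => rw [adj_algebraMap]; exact S.algebraMap_mem _
    | add z w _ _ hz hw => rw [adj_add]; exact S.add_mem hz hw
    | mul z w _ _ hz hw => rw [adj_mul]; exact S.mul_mem hw hz
  have hSc : ∀ x y : S, x * y = y * x := fun x y =>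
    Subtype.ext (commute_of_mem x.2 ((commute_of_mem y.2 (rfl : h * h = h * h)).symm))
  letI : CommRing S := { (inferInstance : Ring S) with mul_comm := hSc }
  haveI : Finite S := Finite.of_injective Subtype.val Subtype.val_injective
  let σ : S →+* S :=
    { toFun := fun x => ⟨adj κ x.1, hSmem _ x.2⟩
      map_one' := Subtype.ext (adj_one κ)
      map_mul' := fun x y => Subtype.ext (by
        show adj κ (x.1 * y.1) = adj κ x.1 * adj κ y.1
        rw [adj_mul]
        exact congrArg Subtype.val (hSc ⟨adj κ y.1, hSmem _ y.2⟩ ⟨adj κ x.1, hSmem _ x.2⟩))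
      map_zero' := Subtype.ext (adj_zero κ)
      map_add' := fun x y => Subtype.ext (adj_add κ x.1 y.1) }
  obtain ⟨l, hl⟩ := hl
  have hlam : IsUnit (σ (algebraMap K S l) - algebraMap K S l) := by
    have e : σ (algebraMap K S l) - algebraMap K S l = algebraMap K S (κ l - l) := by
      refine Subtype.ext ?_
      show adj κ (algebraMap K M l) - algebraMap K M l = algebraMap K M (κ l - l)
      rw [adj_algebraMap, map_sub]
    rw [e]
    exact (isUnit_iff_ne_zero.2 (sub_ne_zero.2 hl)).map _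
  obtain ⟨u, hu⟩ := hu
  let hS : S := ⟨h, Algebra.subset_adjoin rfl⟩
  have huS : IsUnit hS := by
    refine IsUnit.of_pow_eq_one (n := orderOf u) (Subtype.ext ?_) (orderOf_pos u).ne'
    rw [SubmonoidClass.coe_pow]
    show h ^ _ = (1 : M)
    rw [← hu, ← Units.val_pow_eq_pow_val, pow_orderOf_eq_one, Units.val_one]
  obtain ⟨c, hc⟩ := norm_surj σ (fun x => Subtype.ext (adj_adj hκκ x.1)) _ hlam huS.unit (Subtype.ext hadj)
  refine ⟨Units.map S.val.toRingHom.toMonoidHom c, congrArg Subtype.val hc, fun y hy => ?_⟩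
  exact commute_of_mem (c : S).2 hy

/-- An element fixing some non-degenerate sesquilinear form fixes a Hermitian one. -/
theorem exists_hermitian {κ : K →+* K} (hκκ : ∀ x, κ (κ x) = x) (hl : ∃ l : K, κ l ≠ l) {g : M} (hg : IsUnit g)
    (X : GL (Fin n) K) (hX : adj κ g * (X : M) * g = (X : M)) :
    ∃ Y : M, IsUnit Y ∧ adj κ Y = Y ∧ adj κ g * Y * g = Y := by
  classical
  obtain ⟨g, rfl⟩ := hg
  let Xa : GL (Fin n) K := (isUnit_adj κ X.isUnit).unit
  have hXa : (Xa : M) = adj κ (X : M) := IsUnit.unit_spec _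
  let ga : GL (Fin n) K := (isUnit_adj κ g.isUnit).unit
  have hga : (ga : M) = adj κ (g : M) := IsUnit.unit_spec _
  have hX1 : ga * X * g = X := Units.ext (by rw [Units.val_mul, Units.val_mul, hga]; exact hX)
  have hX2 : ga * Xa * g = Xa := by
    refine Units.ext ?_
    rw [Units.val_mul, Units.val_mul, hga, hXa]
    conv_rhs => rw [← hX, adj_mul, adj_mul, adj_adj hκκ]
    rw [mul_assoc]
  let Z : GL (Fin n) K := Xa⁻¹ * X
  have hZg : Z * g = g * Z := by
    have e1 : X * g = ga⁻¹ * X := by rw [eq_inv_mul_iff_mul_eq, ← mul_assoc]; exact hX1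
    have e2 : g * Xa⁻¹ = Xa⁻¹ * ga⁻¹ := by
      rw [eq_inv_mul_iff_mul_eq, ← mul_assoc, mul_inv_eq_iff_eq_mul, eq_inv_mul_iff_mul_eq, ← mul_assoc]
      exact hX2
    show Xa⁻¹ * X * g = g * (Xa⁻¹ * X)
    rw [mul_assoc, e1, ← mul_assoc, ← e2, mul_assoc]
  let Xi : M := ((X⁻¹ : GL (Fin n) K) : M)
  let φ : M → M := fun x => Xi * adj κ x * (X : M)
  have hφmul : ∀ x y, φ (x * y) = φ y * φ x := fun x y => by
    show Xi * adj κ (x * y) * (X : M) = (Xi * adj κ y * (X : M)) * (Xi * adj κ x * (X : M))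
    rw [adj_mul]
    simp [Xi, mul_assoc]
  have hφadd : ∀ x y, φ (x + y) = φ x + φ y := fun x y => by
    show Xi * adj κ (x + y) * (X : M) = _
    rw [adj_add, mul_add, add_mul]
  have hφalg : ∀ c : K, φ (algebraMap K M c) = algebraMap K M (κ c) := fun c => by
    show Xi * adj κ (algebraMap K M c) * (X : M) = _
    rw [adj_algebraMap, mul_assoc, Algebra.commutes, ← mul_assoc]
    simp [Xi]
  have hφ1 : φ 1 = 1 := by
    have := hφalg 1
    rwa [map_one, map_one, map_one] at this
  have hZadj : adj κ (Z : M) * adj κ ((Z⁻¹ : GL (Fin n) K) : M) = 1 := by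
    rw [← adj_mul, Units.inv_mul, adj_one]
  have hφZ : φ (Z : M) = ((Z⁻¹ : GL (Fin n) K) : M) := by
    have h1 : (Xa : M) * (Z : M) = (X : M) := by rw [← Units.val_mul]; simp [Z]
    have h2 : adj κ (Z : M) * (X : M) = adj κ (X : M) := by
      conv_rhs => rw [← h1]
      rw [adj_mul, hXa, adj_adj hκκ]
    show Xi * adj κ (Z : M) * (X : M) = _
    rw [mul_assoc, h2, ← hXa]
    show ((X⁻¹ : GL (Fin n) K) : M) * (Xa : M) = _
    rw [← Units.val_mul]
    simp [Z]
  let S := Algebra.adjoin K ({(Z : M)} : Set M)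
  have hZinv : ((Z⁻¹ : GL (Fin n) K) : M) ∈ S := by
    have hp := orderOf_pos Z
    have : Z⁻¹ = Z ^ (orderOf Z - 1) := by
      rw [inv_eq_iff_mul_eq_one, ← pow_succ', Nat.sub_add_cancel hp, pow_orderOf_eq_one]
    rw [this, Units.val_pow_eq_pow_val]
    exact S.pow_mem (Algebra.subset_adjoin rfl) _
  have hSmem : ∀ x ∈ S, φ x ∈ S := by
    intro x hx
    induction hx using Algebra.adjoin_induction with
    | mem z hz => rw [Set.mem_singleton_iff.1 hz, hφZ]; exact hZinv
    | algebraMap c => rw [hφalg]; exact S.algebraMap_mem _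
    | add z w _ _ hz hw => rw [hφadd]; exact S.add_mem hz hw
    | mul z w _ _ hz hw => rw [hφmul]; exact S.mul_mem hw hz
  have hSc : ∀ x y : S, x * y = y * x := fun x y =>
    Subtype.ext (commute_of_mem x.2 ((commute_of_mem y.2 (rfl : (Z : M) * (Z : M) = (Z : M) * (Z : M))).symm))
  letI : CommRing S := { (inferInstance : Ring S) with mul_comm := hSc }
  haveI : Finite S := Finite.of_injective Subtype.val Subtype.val_injective
  let σ : S →+* S :=
    { toFun := fun x => ⟨φ x.1, hSmem _ x.2⟩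
      map_one' := Subtype.ext hφ1
      map_mul' := fun x y => Subtype.ext (by
        show φ (x.1 * y.1) = φ x.1 * φ y.1
        rw [hφmul]
        exact congrArg Subtype.val (hSc ⟨φ y.1, hSmem _ y.2⟩ ⟨φ x.1, hSmem _ x.2⟩))
      map_zero' := Subtype.ext (by show Xi * adj κ 0 * (X : M) = 0; rw [adj_zero, mul_zero, zero_mul])
      map_add' := fun x y => Subtype.ext (hφadd x.1 y.1) }
  have hinv : ∀ x : S, σ (σ x) = x := by
    intro x
    refine Subtype.ext ?_
    show Xi * adj κ (Xi * adj κ x.1 * (X : M)) * (X : M) = x.1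
    rw [adj_mul, adj_mul, adj_adj hκκ, ← hXa]
    have e : adj κ Xi * (X : M) = (Z : M) := by
      have h1 : (Xa : M) * (adj κ Xi * (X : M)) = (X : M) := by
        rw [← mul_assoc, hXa, ← adj_mul]; simp [Xi, adj_one]
      calc adj κ Xi * (X : M) = ((Xa⁻¹ : GL (Fin n) K) : M) * ((Xa : M) * (adj κ Xi * (X : M))) := by rw [← mul_assoc, Units.inv_mul, one_mul]
        _ = (Z : M) := by rw [h1, ← Units.val_mul]
    have e' : Xi * (Xa : M) = ((Z⁻¹ : GL (Fin n) K) : M) := by
      show ((X⁻¹ : GL (Fin n) K) : M) * (Xa : M) = _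
      rw [← Units.val_mul]; simp [Z]
    calc Xi * ((Xa : M) * (x.1 * adj κ Xi)) * (X : M) = (Xi * (Xa : M)) * (x.1 * (adj κ Xi * (X : M))) := by simp only [mul_assoc]
      _ = ((Z⁻¹ : GL (Fin n) K) : M) * ((Z : M) * x.1) := by rw [e, e', commute_of_mem x.2 (rfl : (Z : M) * (Z : M) = _)]
      _ = x.1 := by rw [← mul_assoc, Units.inv_mul, one_mul]
  obtain ⟨l, hl⟩ := hl
  have hlam : IsUnit (σ (algebraMap K S l) - algebraMap K S l) := by
    have e : σ (algebraMap K S l) - algebraMap K S l = algebraMap K S (κ l - l) := by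
      refine Subtype.ext ?_
      show φ (algebraMap K M l) - algebraMap K M l = algebraMap K M (κ l - l)
      rw [hφalg, map_sub]
    rw [e]
    exact (isUnit_iff_ne_zero.2 (sub_ne_zero.2 hl)).map _
  let zS : Sˣ := ⟨⟨(Z : M), Algebra.subset_adjoin rfl⟩, ⟨_, hZinv⟩, Subtype.ext (Units.mul_inv Z), Subtype.ext (Units.inv_mul Z)⟩
  have hz1 : σ (zS : S) * zS = 1 := Subtype.ext (by
    show φ (Z : M) * (Z : M) = 1
    rw [hφZ, Units.inv_mul])
  obtain ⟨y, hy⟩ := hilbert90 σ hinv _ hlam zS hz1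
  -- the correcting factor
  let c : Sˣ := y⁻¹
  have hc : σ (c : S) = (c : S) * zS := by
    have h1 : σ (c : S) * σ (y : S) = 1 := by rw [← map_mul, Units.inv_mul, map_one]
    calc σ (c : S) = σ (c : S) * ((y : S) * (c : S)) := by rw [Units.mul_inv, mul_one]
      _ = σ (c : S) * (((zS : S) * σ (y : S)) * (c : S)) := by rw [← hy]
      _ = (σ (c : S) * σ (y : S)) * (zS : S) * (c : S) := by ring
      _ = (c : S) * zS := by rw [h1, one_mul, mul_comm]
  let cG : GL (Fin n) K := Units.map S.val.toRingHom.toMonoidHom c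
  refine ⟨(X : M) * (cG : M), X.isUnit.mul cG.isUnit, ?_, ?_⟩
  · have h1 : φ (cG : M) = (cG : M) * (Z : M) := congrArg Subtype.val hc
    have h2 : adj κ (cG : M) = (X : M) * φ (cG : M) * ((X⁻¹ : GL (Fin n) K) : M) := by simp [φ, Xi, mul_assoc]
    rw [adj_mul, h2, h1, ← hXa]
    have : (Z : M) * (((X⁻¹ : GL (Fin n) K) : M) * (Xa : M)) = 1 := by
      rw [← Units.val_mul, ← Units.val_mul]; simp [Z]
    calc (X : M) * ((cG : M) * (Z : M)) * ((X⁻¹ : GL (Fin n) K) : M) * (Xa : M)
        = (X : M) * (cG : M) * ((Z : M) * (((X⁻¹ : GL (Fin n) K) : M) * (Xa : M))) := by simp only [mul_assoc]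
      _ = (X : M) * (cG : M) := by rw [this, mul_one]
  · have hcg : (cG : M) * (g : M) = (g : M) * (cG : M) :=
      commute_of_mem (c : S).2 (by rw [← Units.val_mul, hZg, Units.val_mul])
    calc adj κ (g : M) * ((X : M) * (cG : M)) * (g : M) = (adj κ (g : M) * (X : M)) * ((cG : M) * (g : M)) := by simp only [mul_assoc]
      _ = (adj κ (g : M) * (X : M) * (g : M)) * (cG : M) := by rw [hcg]; simp only [mul_assoc]
      _ = (X : M) * (cG : M) := by rw [hX]

variable {q : ℕ}

/-- An element of `GL_n(q²)` fixing a non-degenerate sesquilinear form is conjugate into `GU_n(q)`. -/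
theorem exists_conj_mem (hK : Fintype.card K = q ^ 2) {κ : K →+* K} (hκ : ∀ x, κ x = x ^ q) (hκκ : ∀ x, κ (κ x) = x)
    (g X : GL (Fin n) K) (hX : adj κ (g : M) * (X : M) * (g : M) = (X : M)) :
    ∃ c : GL (Fin n) K, c * g * c⁻¹ ∈ Cfsg.GU n K q := by
  have hl := exists_moved hK hκ
  obtain ⟨Y, hY, hYa, hYg⟩ := exists_hermitian hκκ hl g.isUnit X hX
  obtain ⟨c, hc, -⟩ := exists_sqrt hκκ hl hYa hY
  refine ⟨c, ?_⟩
  rw [mem_GU hK hκ, Units.val_mul, Units.val_mul, adj_mul, adj_mul]
  have e : adj κ ((c⁻¹ : GL (Fin n) K) : M) * Y * ((c⁻¹ : GL (Fin n) K) : M) = 1 := by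
    rw [← hc, ← mul_assoc, ← adj_mul, mul_assoc, Units.mul_inv, adj_one, one_mul]
  calc adj κ ((c⁻¹ : GL (Fin n) K) : M) * (adj κ (g : M) * adj κ (c : M)) * ((c : M) * (g : M) * ((c⁻¹ : GL (Fin n) K) : M))
      = adj κ ((c⁻¹ : GL (Fin n) K) : M) * (adj κ (g : M) * (adj κ (c : M) * (c : M)) * (g : M)) * ((c⁻¹ : GL (Fin n) K) : M) := by simp only [mul_assoc]
    _ = 1 := by rw [hc, hYg, e]

/-- Elements of `GU_n(q)` conjugate in `GL_n(q²)` are conjugate in `GU_n(q)`. -/
theorem conj_in_GU (hK : Fintype.card K = q ^ 2) {κ : K →+* K} (hκ : ∀ x, κ x = x ^ q) (hκκ : ∀ x, κ (κ x) = x)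
    {A B : GL (Fin n) K} (hA : A ∈ Cfsg.GU n K q) (hB : B ∈ Cfsg.GU n K q) (P : GL (Fin n) K) (hP : P * A * P⁻¹ = B) :
    ∃ c ∈ Cfsg.GU n K q, c * A * c⁻¹ = B := by
  rw [mem_GU hK hκ] at hA hB
  have hPa : (P : M) * (A : M) = (B : M) * (P : M) := by rw [← Units.val_mul, ← Units.val_mul, ← hP]; simp
  set h : M := adj κ (P : M) * (P : M) with hh
  have h1 : adj κ (A : M) * h * (A : M) = h := by
    calc adj κ (A : M) * h * (A : M) = adj κ ((P : M) * (A : M)) * ((P : M) * (A : M)) := by rw [adj_mul, hh]; simp only [mul_assoc]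
      _ = adj κ (P : M) * (adj κ (B : M) * (B : M)) * (P : M) := by rw [hPa, adj_mul]; simp only [mul_assoc]
      _ = h := by rw [hB, mul_one]
  have ha' : (A : M) * adj κ (A : M) = 1 := mul_eq_one_comm.1 hA
  have hha : h * (A : M) = (A : M) * h := by
    calc h * (A : M) = ((A : M) * adj κ (A : M)) * (h * (A : M)) := by rw [ha', one_mul]
      _ = (A : M) * (adj κ (A : M) * h * (A : M)) := by simp only [mul_assoc]
      _ = (A : M) * h := by rw [h1]
  obtain ⟨c, hc, hcomm⟩ := exists_sqrt hκκ (exists_moved hK hκ) (h := h) (by rw [hh, adj_mul, adj_adj hκκ])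
    ((isUnit_adj κ P.isUnit).mul P.isUnit)
  refine ⟨P * c⁻¹, ?_, ?_⟩
  · rw [mem_GU hK hκ, Units.val_mul, adj_mul]
    calc adj κ ((c⁻¹ : GL (Fin n) K) : M) * adj κ (P : M) * ((P : M) * ((c⁻¹ : GL (Fin n) K) : M))
        = adj κ ((c⁻¹ : GL (Fin n) K) : M) * h * ((c⁻¹ : GL (Fin n) K) : M) := by rw [hh]; simp only [mul_assoc]
      _ = 1 := by rw [← hc, ← mul_assoc, ← adj_mul, mul_assoc, Units.mul_inv, adj_one, one_mul]
  · have hca : Commute c A := Units.ext (hcomm _ hha)
    rw [mul_inv_rev, inv_inv, mul_assoc P c⁻¹ A, hca.inv_left.eq, ← mul_assoc P A c⁻¹, mul_assoc (P * A) c⁻¹,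
      inv_mul_cancel_left]
    exact hP

end CfsgLib.Unitary.Conj
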