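import Mathlib
import Cfsg.Prelude.Def_Classical
import Cfsg.Prelude.Def_LieClassical
import Cfsg.Agent.Lib.Unitary.Conj

/-! From conjugacy in the general unitary group to conjugacy in the special unitary group. -/

set_option autoImplicit false

namespace CfsgLib.Unitary.SpecialConj

open Matrix

variable {K : Type*} [Field K] {n q : ℕ}

theorem mem_GU_iff (a : Matrix.SpecialLinearGroup (Fin n) K) :
    a ∈ Cfsg.SU n K q ↔ Matrix.SpecialLinearGroup.toGL a ∈ Cfsg.GU n K q := Iff.rfl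

theorem isConj_of_det (a b : ↥(Cfsg.SU n K q)) (u : GL (Fin n) K) (hu : u ∈ Cfsg.GU n K q)
    (hdet : (u : Matrix (Fin n) (Fin n) K).det = 1)
    (h : (u : Matrix (Fin n) (Fin n) K) * ((a : Matrix.SpecialLinearGroup (Fin n) K) : Matrix (Fin n) (Fin n) K)
      = ((b : Matrix.SpecialLinearGroup (Fin n) K) : Matrix (Fin n) (Fin n) K) * (u : Matrix (Fin n) (Fin n) K)) :
    IsConj a b := by
  let s : Matrix.SpecialLinearGroup (Fin n) K := ⟨(u : Matrix (Fin n) (Fin n) K), hdet⟩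
  have hs : Matrix.SpecialLinearGroup.toGL s = u := Units.ext rfl
  refine isConj_iff.2 ⟨⟨s, (mem_GU_iff s).2 (hs.symm ▸ hu)⟩, ?_⟩
  rw [mul_inv_eq_iff_eq_mul]
  exact Subtype.ext (Subtype.ext h)

theorem det_norm [Fintype K] (hK : Fintype.card K = q ^ 2) {κ : K →+* K} (hκ : ∀ x, κ x = x ^ q)
    {u : GL (Fin n) K} (hu : u ∈ Cfsg.GU n K q) : (u : Matrix (Fin n) (Fin n) K).det ^ (q + 1) = 1 := by
  have h := congrArg Matrix.det ((CfsgLib.Unitary.Conj.mem_GU hK hκ u).1 hu)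
  rw [Matrix.det_mul, CfsgLib.Unitary.Conj.det_adj, Matrix.det_one, hκ, ← pow_succ] at h
  exact h

end CfsgLib.Unitary.SpecialConj
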