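import Mathlib
import Cfsg.Prelude.Def_LieRecognition
import Cfsg.Agent.Lib.Unitary.Order

/-! A Sylow 2-subgroup of `SU 3 F q` in characteristic two, in coordinates:
pairs `(x, y)` with `y + y^q = x^(q+1)` and `(x,y)(x',y') = (x + x', y + y' + x^q x')`. -/
set_option autoImplicit false
open scoped Matrix commutatorElement

namespace CfsgLib.Unitary.SylowTwo
open CfsgLib.Unitary.FieldNorm CfsgLib.Unitary.Basic CfsgLib.Unitary.Order

variable {F : Type*} [Field F] [Fintype F] [CharP F 2] {q : ℕ}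

theorem two_eq_zero : (2 : F) = 0 := CharTwo.two_eq_zero

theorem card_fixed (hF : Fintype.card F = q ^ 2) : Nat.card {c : F // c ^ q = c} = q := by
  classical
  have h2 := two_le_q hF
  let T : F →+ F := AddMonoidHom.mk' (fun z => z + z ^ q) (fun u v => by simp only [add_pow_q hF]; ring)
  have hker : Nat.card T.ker = Nat.card {c : F // c ^ q = c} := by
    refine Nat.card_congr (Equiv.subtypeEquivRight fun z => ?_)
    rw [AddMonoidHom.mem_ker]
    show z + z ^ q = 0 ↔ _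
    rw [CharTwo.add_eq_zero, eq_comm]
  have hrange : Nat.card T.range ≤ Nat.card {c : F // c ^ q = c} := by
    refine Nat.card_le_card_of_injective (fun z => ⟨z.1, ?_⟩) fun u v h => Subtype.ext (congrArg Subtype.val h :)
    obtain ⟨w, hw⟩ := z.2
    rw [← hw]
    show (w + w ^ q) ^ q = w + w ^ q
    rw [add_pow_q hF, pow_q_q hF, add_comm]
  have hprod : Nat.card T.ker * Nat.card T.range = q ^ 2 := by
    rw [← hF, ← Nat.card_eq_fintype_card, ← AddSubgroup.index_ker, AddSubgroup.card_mul_index]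
  have hle : Nat.card {c : F // c ^ q = c} ≤ q := by
    let P : Polynomial F := Polynomial.X ^ q - Polynomial.X
    have hP : P ≠ 0 := FiniteField.X_pow_card_sub_X_ne_zero F h2
    have hd : P.natDegree = q := FiniteField.X_pow_card_sub_X_natDegree_eq F h2
    calc Nat.card {c : F // c ^ q = c} ≤ Nat.card {c : F // c ∈ P.roots.toFinset} :=
          Nat.card_le_card_of_injective (fun c => ⟨c.1, by
            rw [Multiset.mem_toFinset, Polynomial.mem_roots hP]; simp [P, c.2]⟩)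
            fun u v h => Subtype.ext (congrArg Subtype.val h :)
      _ ≤ q := by
        rw [Nat.card_eq_fintype_card, Fintype.card_coe]
        exact (Multiset.toFinset_card_le _).trans ((Polynomial.card_roots' P).trans hd.le)
  rw [hker] at hprod
  nlinarith

/-- an element of trace one -/
theorem exists_trace_one (hF : Fintype.card F = q ^ 2) : ∃ a : F, a + a ^ q = 1 := by
  have h2 := two_le_q hF
  obtain ⟨z, hz⟩ : ∃ z : F, z ^ q ≠ z := by
    by_contra h
    push Not at h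
    have : Nat.card F ≤ Nat.card {c : F // c ^ q = c} :=
      Nat.card_le_card_of_injective (fun z => ⟨z, h z⟩) fun u v e => congrArg Subtype.val e
    rw [card_fixed hF, Nat.card_eq_fintype_card, hF] at this
    nlinarith
  have hd : z + z ^ q ≠ 0 := fun e => hz (CharTwo.add_eq_zero.mp e).symm
  refine ⟨z / (z + z ^ q), ?_⟩
  rw [div_pow, add_pow_q hF, pow_q_q hF, add_comm (z ^ q) z, ← add_div, div_self hd]

noncomputable def aa (hF : Fintype.card F = q ^ 2) : F := (exists_trace_one hF).choose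

theorem aa_spec (hF : Fintype.card F = q ^ 2) : aa hF + aa hF ^ q = 1 := (exists_trace_one hF).choose_spec

def Pm (a : F) : Matrix (Fin 3) (Fin 3) F := !![1, 0, a; 1, 0, a + 1; 0, 1, 0]
def Qm (a : F) : Matrix (Fin 3) (Fin 3) F := !![a + 1, a, 0; 0, 0, 1; 1, 1, 0]
def Mm (q : ℕ) (x y : F) : Matrix (Fin 3) (Fin 3) F := !![1, x ^ q, y; 0, 1, x; 0, 0, 1]

/-- the element `(x, y)` as a matrix -/
noncomputable def mat (hF : Fintype.card F = q ^ 2) (x y : F) : Matrix (Fin 3) (Fin 3) F :=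
  Pm (aa hF) * Mm q x y * Qm (aa hF)

theorem PQ (a : F) : Pm a * Qm a = 1 := by
  have h := two_eq_zero (F := F)
  ext i j
  fin_cases i <;> fin_cases j <;> simp [Pm, Qm, Matrix.mul_apply, Fin.sum_univ_three] <;> ring_nf <;> simp [h]

theorem QP (a : F) : Qm a * Pm a = 1 := mul_eq_one_comm.mp (PQ a)

theorem Mm_mul (hF : Fintype.card F = q ^ 2) (x y x' y' : F) :
    Mm q x y * Mm q x' y' = Mm q (x + x') (y + y' + x ^ q * x') := by
  ext i j
  fin_cases i <;> fin_cases j <;> simp [Mm, Matrix.mul_apply, Fin.sum_univ_three, add_pow_q hF] <;> ring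

theorem mat_mul (hF : Fintype.card F = q ^ 2) (x y x' y' : F) :
    mat hF x y * mat hF x' y' = mat hF (x + x') (y + y' + x ^ q * x') := by
  unfold mat
  rw [show Pm (aa hF) * Mm q x y * Qm (aa hF) * (Pm (aa hF) * Mm q x' y' * Qm (aa hF)) =
    Pm (aa hF) * Mm q x y * (Qm (aa hF) * Pm (aa hF)) * Mm q x' y' * Qm (aa hF) by simp only [Matrix.mul_assoc],
    QP, Matrix.mul_one, Matrix.mul_assoc (Pm _), Mm_mul hF]

theorem mat_zero (hF : Fintype.card F = q ^ 2) : mat hF (0 : F) 0 = 1 := by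
  have h0 : (0 : F) ^ q = 0 := zero_pow (q_ne_zero hF)
  have : Mm q (0 : F) 0 = 1 := by
    ext i j; fin_cases i <;> fin_cases j <;> simp [Mm, h0]
  rw [mat, this, Matrix.mul_one, PQ]

theorem mat_inj (hF : Fintype.card F = q ^ 2) {x y x' y' : F} (h : mat hF x y = mat hF x' y') : x = x' ∧ y = y' := by
  have h' : Mm q x y = Mm q x' y' := by
    have e := congrArg (fun M => Qm (aa hF) * M * Pm (aa hF)) h
    simpa only [mat, ← Matrix.mul_assoc, QP, Matrix.one_mul, Matrix.mul_assoc _ (Qm _) (Pm _), Matrix.mul_one] using e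
  exact ⟨by simpa [Mm] using congrFun (congrFun h' 1) 2, by simpa [Mm] using congrFun (congrFun h' 0) 2⟩

theorem mat_det (hF : Fintype.card F = q ^ 2) (x y : F) : (mat hF x y).det = 1 := by
  rw [mat, Matrix.det_mul, Matrix.det_mul, show (Mm q x y).det = 1 by simp [Matrix.det_fin_three, Mm],
    mul_one, ← Matrix.det_mul, PQ, Matrix.det_one]

theorem herm_Pm (hF : Fintype.card F = q ^ 2) (u v : Fin 3 → F) :
    Cfsg.hermForm 3 F q (Pm (aa hF) *ᵥ u) (Pm (aa hF) *ᵥ v) = u 0 * v 2 ^ q + u 1 * v 1 ^ q + u 2 * v 0 ^ q := by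
  have ha := aa_spec hF
  have h2 := two_eq_zero (F := F)
  simp [Cfsg.hermForm, Pm, Fin.sum_univ_three, dotProduct, Matrix.mulVec, add_pow_q hF, mul_pow, pow_q_q hF, zero_pow (q_ne_zero hF)]
  generalize aa hF = a at *
  generalize a ^ q = b at *
  linear_combination (u 0 * v 0 ^ q + u 0 * b * v 2 ^ q + a * u 2 * v 0 ^ q + a * u 2 * b * v 2 ^ q + u 2 * v 2 ^ q) * h2 + (u 2 * v 2 ^ q) * ha

theorem mat_preserves (hF : Fintype.card F = q ^ 2) {x y : F} (hxy : y + y ^ q = x ^ (q + 1)) (u v : Fin 3 → F) :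
    Cfsg.hermForm 3 F q (mat hF x y *ᵥ u) (mat hF x y *ᵥ v) = Cfsg.hermForm 3 F q u v := by
  have key : ∀ w : Fin 3 → F, w = Pm (aa hF) *ᵥ (Qm (aa hF) *ᵥ w) := fun w => by
    rw [Matrix.mulVec_mulVec, PQ, Matrix.one_mulVec]
  have e : ∀ w, mat hF x y *ᵥ w = Pm (aa hF) *ᵥ (Mm q x y *ᵥ (Qm (aa hF) *ᵥ w)) := fun w => by
    rw [Matrix.mulVec_mulVec, Matrix.mulVec_mulVec]; rfl
  rw [e, e, herm_Pm hF]
  conv_rhs => rw [key u, key v, herm_Pm hF]
  generalize Qm (aa hF) *ᵥ u = a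
  generalize Qm (aa hF) *ᵥ v = b
  have h2 := two_eq_zero (F := F)
  rw [pow_succ] at hxy
  simp [Mm, Fin.sum_univ_three, dotProduct, Matrix.mulVec, add_pow_q hF, mul_pow, pow_q_q hF]
  linear_combination a 2 * b 2 ^ q * hxy + (a 1 * x ^ q * b 2 ^ q + a 2 * x * b 1 ^ q + a 2 * b 2 ^ q * x ^ q * x) * h2

/-- The element `(x, y)` of `SU 3 F q`. -/
noncomputable def el (hF : Fintype.card F = q ^ 2) (x y : F) (h : y + y ^ q = x ^ (q + 1)) : Cfsg.SU 3 F q :=
  ⟨⟨mat hF x y, mat_det hF x y⟩, mat_preserves hF h⟩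

theorem el_ext (hF : Fintype.card F = q ^ 2) {x y x' y' : F} {h : y + y ^ q = x ^ (q + 1)}
    {h' : y' + y' ^ q = x' ^ (q + 1)} : el hF x y h = el hF x' y' h' ↔ x = x' ∧ y = y' := by
  constructor
  · intro e
    exact mat_inj hF (congrArg (fun g : Cfsg.SU 3 F q => g.1.1) e)
  · rintro ⟨rfl, rfl⟩; rfl

theorem mul_cond (hF : Fintype.card F = q ^ 2) {x y x' y' : F} (h : y + y ^ q = x ^ (q + 1))
    (h' : y' + y' ^ q = x' ^ (q + 1)) :
    y + y' + x ^ q * x' + (y + y' + x ^ q * x') ^ q = (x + x') ^ (q + 1) := by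
  rw [pow_succ] at h h'
  rw [pow_succ, add_pow_q hF, add_pow_q hF, add_pow_q hF, mul_pow, pow_q_q hF]
  linear_combination h + h'

theorem el_mul (hF : Fintype.card F = q ^ 2) {x y x' y' : F} (h : y + y ^ q = x ^ (q + 1))
    (h' : y' + y' ^ q = x' ^ (q + 1)) :
    el hF x y h * el hF x' y' h' = el hF (x + x') (y + y' + x ^ q * x') (mul_cond hF h h') :=
  Subtype.ext (Subtype.ext (mat_mul hF x y x' y'))

theorem one_cond (hF : Fintype.card F = q ^ 2) : (0 : F) + 0 ^ q = 0 ^ (q + 1) := by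
  rw [zero_pow (q_ne_zero hF), zero_pow (Nat.succ_ne_zero q), add_zero]

theorem el_one (hF : Fintype.card F = q ^ 2) : el hF 0 0 (one_cond hF) = 1 :=
  Subtype.ext (Subtype.ext (mat_zero hF))

theorem inv_cond (hF : Fintype.card F = q ^ 2) {x y : F} (h : y + y ^ q = x ^ (q + 1)) :
    y ^ q + (y ^ q) ^ q = x ^ (q + 1) := by rw [pow_q_q hF, add_comm]; exact h

theorem el_inv (hF : Fintype.card F = q ^ 2) {x y : F} (h : y + y ^ q = x ^ (q + 1)) :
    (el hF x y h)⁻¹ = el hF x (y ^ q) (inv_cond hF h) := by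
  have h2 := two_eq_zero (F := F)
  refine inv_eq_of_mul_eq_one_right ?_
  rw [el_mul hF, ← el_one hF, el_ext hF]
  rw [pow_succ] at h
  exact ⟨CharTwo.add_self_eq_zero x, by linear_combination h + (x ^ q * x) * h2⟩

/-- The coordinate Sylow 2-subgroup. -/
noncomputable def U (hF : Fintype.card F = q ^ 2) : Subgroup (Cfsg.SU 3 F q) where
  carrier := {g | ∃ x y, ∃ h : y + y ^ q = x ^ (q + 1), el hF x y h = g}
  one_mem' := ⟨0, 0, one_cond hF, el_one hF⟩
  mul_mem' := by
    rintro _ _ ⟨x, y, h, rfl⟩ ⟨x', y', h', rfl⟩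
    exact ⟨_, _, _, (el_mul hF h h').symm⟩
  inv_mem' := by
    rintro _ ⟨x, y, h, rfl⟩
    exact ⟨_, _, _, (el_inv hF h).symm⟩

/-- Elements of `U`. -/
noncomputable def mk (hF : Fintype.card F = q ^ 2) (x y : F) (h : y + y ^ q = x ^ (q + 1)) : U hF :=
  ⟨el hF x y h, x, y, h, rfl⟩

theorem mk_surj (hF : Fintype.card F = q ^ 2) (g : U hF) : ∃ x y h, mk hF x y h = g := by
  obtain ⟨x, y, h, e⟩ := g.2
  exact ⟨x, y, h, Subtype.ext e⟩

theorem mk_ext (hF : Fintype.card F = q ^ 2) {x y x' y' : F} {h : y + y ^ q = x ^ (q + 1)}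
    {h' : y' + y' ^ q = x' ^ (q + 1)} : mk hF x y h = mk hF x' y' h' ↔ x = x' ∧ y = y' :=
  Subtype.ext_iff.trans (el_ext hF (h := h) (h' := h'))

theorem mk_mul (hF : Fintype.card F = q ^ 2) {x y x' y' : F} (h : y + y ^ q = x ^ (q + 1))
    (h' : y' + y' ^ q = x' ^ (q + 1)) :
    mk hF x y h * mk hF x' y' h' = mk hF (x + x') (y + y' + x ^ q * x') (mul_cond hF h h') :=
  Subtype.ext (el_mul hF h h')

theorem mk_one (hF : Fintype.card F = q ^ 2) : mk hF 0 0 (one_cond hF) = 1 := Subtype.ext (el_one hF)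

theorem mk_inv (hF : Fintype.card F = q ^ 2) {x y : F} (h : y + y ^ q = x ^ (q + 1)) :
    (mk hF x y h)⁻¹ = mk hF x (y ^ q) (inv_cond hF h) := Subtype.ext (el_inv hF h)

theorem fixed_norm (hF : Fintype.card F = q ^ 2) (x : F) : (x ^ (q + 1)) ^ q = x ^ (q + 1) := by
  rw [pow_succ, mul_pow, pow_q_q hF, mul_comm]

theorem lift_cond (hF : Fintype.card F = q ^ 2) (x : F) :
    aa hF * x ^ (q + 1) + (aa hF * x ^ (q + 1)) ^ q = x ^ (q + 1) := by
  rw [mul_pow, fixed_norm hF, ← add_mul, aa_spec, one_mul]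

theorem zero_cond (hF : Fintype.card F = q ^ 2) {c : F} (hc : c ^ q = c) : c + c ^ q = (0 : F) ^ (q + 1) := by
  rw [hc, CharTwo.add_self_eq_zero, zero_pow (Nat.succ_ne_zero q)]

theorem cond_zero (hF : Fintype.card F = q ^ 2) {y : F} (h : y + y ^ q = (0 : F) ^ (q + 1)) : y ^ q = y := by
  rw [zero_pow (Nat.succ_ne_zero q), CharTwo.add_eq_zero] at h; exact h.symm

theorem card_U (hF : Fintype.card F = q ^ 2) : Nat.card (U hF) = q ^ 3 := by
  have h2 := two_eq_zero (F := F)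
  let f : F × {c : F // c ^ q = c} → U hF := fun p => mk hF p.1 (aa hF * p.1 ^ (q + 1) + p.2.1) (by
    rw [add_pow_q hF, p.2.2]; linear_combination lift_cond hF p.1 + (p.2.1 : F) * h2)
  have hf : Function.Bijective f := by
    refine ⟨fun p p' e => ?_, fun g => ?_⟩
    · obtain ⟨e1, e2⟩ := (mk_ext hF).mp e
      rw [e1] at e2
      exact Prod.ext e1 (Subtype.ext (add_left_cancel e2))
    · obtain ⟨x, y, h, rfl⟩ := mk_surj hF g
      refine ⟨(x, ⟨y + aa hF * x ^ (q + 1), ?_⟩), (mk_ext hF).mpr ⟨rfl, ?_⟩⟩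
      · rw [add_pow_q hF]; linear_combination h + lift_cond hF x - (y + aa hF * x ^ (q + 1)) * h2 + (x ^ (q + 1)) * h2
      · simp only; linear_combination (aa hF * x ^ (q + 1)) * h2
  rw [← Nat.card_eq_of_bijective f hf, Nat.card_prod, card_fixed hF, Nat.card_eq_fintype_card, hF]; ring

variable {n : ℕ}

theorem isPGroup_U (hF : Fintype.card F = q ^ 2) (hq : q = 2 ^ n) : IsPGroup 2 (U hF) :=
  IsPGroup.of_card (n := 3 * n) (by rw [card_U hF, hq, ← pow_mul, mul_comm])

theorem card_SU3 (hF : Fintype.card F = q ^ 2) :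
    Nat.card (Cfsg.SU 3 F q) = q ^ 3 * ((q ^ 2 - 1) * (q ^ 3 + 1)) := by
  have h := card_SU_mul (n := 3) hF (by norm_num)
  rw [card_GU hF 3] at h
  simp [Finset.prod_range_succ] at h
  have e : q ^ 3 * ((q + 1) * (q ^ 2 - 1) * (q ^ 3 + 1)) = (q + 1) * (q ^ 3 * ((q ^ 2 - 1) * (q ^ 3 + 1))) := by ring
  exact Nat.eq_of_mul_eq_mul_left (Nat.succ_pos q) (h.trans e)

theorem sylow_card {G : Type*} [Group G] [Finite G] (V : Subgroup G) (hV : IsPGroup 2 V) (m : ℕ) (hm : Odd m)
    (h : Nat.card G = Nat.card V * m) (S : Sylow 2 G) : Nonempty ((S : Subgroup G) ≃* V) := by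
  haveI : Fact (Nat.Prime 2) := ⟨Nat.prime_two⟩
  have hidx : V.index = m := by
    have := Subgroup.card_mul_index V
    rw [h] at this
    exact Nat.eq_of_mul_eq_mul_left Nat.card_pos this
  exact ⟨(Sylow.equiv S (hV.toSylow (by rw [hidx]; intro hd; exact hm.not_two_dvd_nat hd)))⟩

theorem odd_cofactor (hF : Fintype.card F = q ^ 2) (hq : q = 2 ^ n) : Odd ((q ^ 2 - 1) * (q ^ 3 + 1)) := by
  have hn : n ≠ 0 := fun h => by have := two_le_q hF; rw [hq, h] at this; simp at this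
  have he : ∀ j, j ≠ 0 → Even (q ^ j) := fun j hj => by
    rw [hq, ← pow_mul]; exact even_two.pow_of_ne_zero (Nat.mul_ne_zero hn hj)
  refine Odd.mul ?_ (Even.add_one (he 3 (by norm_num)))
  have := two_le_q hF
  exact Nat.Even.sub_odd (by nlinarith) (he 2 two_ne_zero) odd_one

theorem sylow_su (hF : Fintype.card F = q ^ 2) (hq : q = 2 ^ n) (S : Sylow 2 (Cfsg.SU 3 F q)) :
    Nonempty ((S : Subgroup (Cfsg.SU 3 F q)) ≃* U hF) :=
  sylow_card (U hF) (isPGroup_U hF hq) _ (odd_cofactor hF hq) (by rw [card_SU3 hF, card_U hF]) S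

theorem sylow_psu (hF : Fintype.card F = q ^ 2) (hq : q = 2 ^ n) (S : Sylow 2 (Cfsg.PSU 3 F q)) :
    Nonempty ((S : Subgroup (Cfsg.PSU 3 F q)) ≃* U hF) := by
  set π := QuotientGroup.mk' (Subgroup.center (Cfsg.SU 3 F q))
  have hodd := odd_cofactor hF hq
  have hZdvd : Nat.card (Subgroup.center (Cfsg.SU 3 F q)) ∣ 3 := by
    rw [card_center_SU hF (by norm_num)]; exact Nat.gcd_dvd_left _ _
  have hcop : (Nat.card (U hF)).Coprime (Nat.card (Subgroup.center (Cfsg.SU 3 F q))) := by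
    rw [card_U hF, show q ^ 3 = 2 ^ (n * 3) by rw [hq, ← pow_mul]]
    exact ((show Nat.Coprime 2 3 by norm_num).coprime_dvd_right hZdvd).pow_left _
  have hinj : Function.Injective (π.comp (U hF).subtype) := by
    rw [injective_iff_map_eq_one]
    intro g hg
    have h1 : (g : Cfsg.SU 3 F q) ∈ U hF ⊓ Subgroup.center (Cfsg.SU 3 F q) := ⟨g.2, (QuotientGroup.eq_one_iff _).mp hg⟩
    rw [Subgroup.inf_eq_bot_of_coprime hcop, Subgroup.mem_bot] at h1
    exact Subtype.ext h1
  let V := (π.comp (U hF).subtype).range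
  let e : U hF ≃* V := MonoidHom.ofInjective hinj
  have hcard : Nat.card (Cfsg.PSU 3 F q) * Nat.card (Subgroup.center (Cfsg.SU 3 F q)) =
      Nat.card (U hF) * ((q ^ 2 - 1) * (q ^ 3 + 1)) := by
    rw [← Subgroup.card_eq_card_quotient_mul_card_subgroup, card_SU3 hF, card_U hF]
  have hd : Nat.card (Subgroup.center (Cfsg.SU 3 F q)) ∣ (q ^ 2 - 1) * (q ^ 3 + 1) :=
    hcop.symm.dvd_of_dvd_mul_left ⟨Nat.card (Cfsg.PSU 3 F q), by rw [← hcard, mul_comm]⟩
  obtain ⟨m, hm⟩ := hd
  obtain ⟨f⟩ := sylow_card V ((isPGroup_U hF hq).of_equiv e) m (hodd.of_dvd_nat ⟨_, by rw [hm, mul_comm]⟩) (by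
    rw [← Nat.card_congr e.toEquiv]
    refine Nat.eq_of_mul_eq_mul_right (Nat.card_pos (α := Subgroup.center (Cfsg.SU 3 F q))) ?_
    rw [hcard, hm]; ring) S
  exact ⟨f.trans e.symm⟩

theorem commute_iff (hF : Fintype.card F = q ^ 2) {x y x' y' : F} (h : y + y ^ q = x ^ (q + 1))
    (h' : y' + y' ^ q = x' ^ (q + 1)) :
    Commute (mk hF x y h) (mk hF x' y' h') ↔ x ^ q * x' = x' ^ q * x := by
  rw [Commute, SemiconjBy, mk_mul hF, mk_mul hF, mk_ext hF]
  constructor
  · rintro ⟨-, e⟩; linear_combination e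
  · intro e; exact ⟨add_comm _ _, by linear_combination e⟩

theorem mem_center_iff (hF : Fintype.card F = q ^ 2) {x y : F} (h : y + y ^ q = x ^ (q + 1)) :
    mk hF x y h ∈ Subgroup.center (U hF) ↔ x = 0 := by
  rw [Subgroup.mem_center_iff]
  constructor
  · intro hc
    have e1 := (commute_iff hF h (lift_cond hF (1 : F))).mp (hc _).symm
    have e2 := (commute_iff hF h (lift_cond hF (aa hF))).mp (hc _).symm
    rw [one_pow, mul_one, one_mul] at e1
    rw [e1] at e2
    have := aa_spec hF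
    have h2 := two_eq_zero (F := F)
    linear_combination e2 - x * this + (aa hF ^ q * x) * h2
  · rintro rfl g
    obtain ⟨x', y', h', rfl⟩ := mk_surj hF g
    exact ((commute_iff hF h' h).mpr (by simp [zero_pow (q_ne_zero hF)])).eq

theorem mk_sq (hF : Fintype.card F = q ^ 2) {x y : F} (h : y + y ^ q = x ^ (q + 1)) :
    mk hF x y h * mk hF x y h = mk hF 0 (x ^ (q + 1)) (zero_cond hF (fixed_norm hF x)) := by
  have h2 := two_eq_zero (F := F)
  rw [mk_mul hF, mk_ext hF]
  exact ⟨CharTwo.add_self_eq_zero x, by rw [pow_succ]; linear_combination y * h2⟩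

theorem sq_eq_one_iff (hF : Fintype.card F = q ^ 2) {x y : F} (h : y + y ^ q = x ^ (q + 1)) :
    mk hF x y h * mk hF x y h = 1 ↔ x = 0 := by
  rw [mk_sq hF, ← mk_one hF, mk_ext hF]
  simp

theorem sq_eq_one_iff_center (hF : Fintype.card F = q ^ 2) (g : U hF) :
    g * g = 1 ↔ g ∈ Subgroup.center (U hF) := by
  obtain ⟨x, y, h, rfl⟩ := mk_surj hF g
  rw [sq_eq_one_iff hF, mem_center_iff hF]

theorem card_center (hF : Fintype.card F = q ^ 2) : Nat.card (Subgroup.center (U hF)) = q := by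
  let f : {c : F // c ^ q = c} → Subgroup.center (U hF) := fun c =>
    ⟨mk hF 0 c.1 (zero_cond hF c.2), (mem_center_iff hF _).mpr rfl⟩
  have hf : Function.Bijective f := by
    refine ⟨fun c d e => Subtype.ext ((mk_ext hF).mp (congrArg Subtype.val e)).2, fun g => ?_⟩
    obtain ⟨x, y, h, e⟩ := mk_surj hF g.1
    have hx : x = 0 := (mem_center_iff hF h).mp (e ▸ g.2)
    subst hx
    exact ⟨⟨y, cond_zero hF h⟩, Subtype.ext e⟩
  rw [← Nat.card_eq_of_bijective f hf, card_fixed hF]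

theorem commutator_eq_center (hF : Fintype.card F = q ^ 2) : commutator (U hF) = Subgroup.center (U hF) := by
  have h2 := two_eq_zero (F := F)
  refine le_antisymm ?_ fun g hg => ?_
  · rw [commutator_eq_closure, Subgroup.closure_le]
    rintro _ ⟨u, v, rfl⟩
    obtain ⟨x, y, h, rfl⟩ := mk_surj hF u
    obtain ⟨x', y', h', rfl⟩ := mk_surj hF v
    rw [SetLike.mem_coe, commutatorElement_def, mk_inv hF, mk_inv hF, mk_mul hF, mk_mul hF, mk_mul hF, mem_center_iff hF]
    linear_combination (x + x') * h2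
  · obtain ⟨x, y, h, rfl⟩ := mk_surj hF g
    have hx : x = 0 := (mem_center_iff hF h).mp hg
    subst hx
    have hy := cond_zero hF h
    have key : mk hF 0 y h = ⁅mk hF 1 _ (lift_cond hF 1), mk hF (y * aa hF) _ (lift_cond hF (y * aa hF))⁆ := by
      rw [commutatorElement_def, mk_inv hF, mk_inv hF, mk_mul hF, mk_mul hF, mk_mul hF, mk_ext hF]
      have ha := aa_spec hF
      refine ⟨by linear_combination -((1 : F) + y * aa hF) * h2, ?_⟩
      simp only [pow_succ, add_pow_q hF, one_pow, mul_pow, pow_q_q hF, hy, one_mul, mul_one]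
      linear_combination (-1 - y * y * (aa hF ^ q * aa hF) - y) * ha + (-1 - y * y * (aa hF ^ q * aa hF)) * h2 - (y * aa hF) * h2
    rw [key]
    exact Subgroup.commutator_mem_commutator (Subgroup.mem_top _) (Subgroup.mem_top _)

/-- scaling by an element of the fixed field -/
theorem scale_cond (hF : Fintype.card F = q ^ 2) {t : F} (ht : t ^ q = t) {x y : F}
    (h : y + y ^ q = x ^ (q + 1)) : t * t * y + (t * t * y) ^ q = (t * x) ^ (q + 1) := by
  rw [pow_succ] at h ⊢
  rw [mul_pow, mul_pow, mul_pow, ht]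
  linear_combination t * t * h

theorem exists_scale (hF : Fintype.card F = q ^ 2) {t : F} (ht : t ^ q = t) (ht0 : t ≠ 0) :
    ∃ φ : MulAut (U hF), ∀ x y h, φ (mk hF x y h) = mk hF (t * x) (t * t * y) (scale_cond hF ht h) := by
  have hs := fun g : U hF => mk_surj hF g
  choose X Y H E using hs
  let f : U hF → U hF := fun g => mk hF (t * X g) (t * t * Y g) (scale_cond hF ht (H g))
  have hf : ∀ x y h, f (mk hF x y h) = mk hF (t * x) (t * t * y) (scale_cond hF ht h) := fun x y h => by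
    obtain ⟨e1, e2⟩ := (mk_ext hF).mp (E (mk hF x y h))
    exact (mk_ext hF).mpr ⟨by rw [e1], by rw [e2]⟩
  let φ : U hF →* U hF := MonoidHom.mk' f fun u v => by
    obtain ⟨x, y, h, rfl⟩ := mk_surj hF u
    obtain ⟨x', y', h', rfl⟩ := mk_surj hF v
    rw [mk_mul hF, hf, hf, hf, mk_mul hF, mk_ext hF]
    exact ⟨by ring, by rw [mul_pow, ht]; ring⟩
  have hinj : Function.Injective φ := fun u v e => by
    obtain ⟨x, y, h, rfl⟩ := mk_surj hF u
    obtain ⟨x', y', h', rfl⟩ := mk_surj hF v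
    change f _ = f _ at e
    rw [hf, hf, mk_ext hF] at e
    exact (mk_ext hF).mpr ⟨mul_left_cancel₀ ht0 e.1, mul_left_cancel₀ (mul_ne_zero ht0 ht0) e.2⟩
  exact ⟨MulEquiv.ofBijective φ (Finite.injective_iff_bijective.mp hinj), hf⟩

theorem isSuzukiTwoGroup (hF : Fintype.card F = q ^ 2) (hq : q = 2 ^ n) (hq2 : 2 < q) :
    Cfsg.IsSuzukiTwoGroup (U hF) := by
  refine ⟨inferInstance, isPGroup_U hF hq, ?_, ?_, ?_⟩
  · by_contra h
    push Not at h
    have := (mem_center_iff hF (lift_cond hF (1 : F))).mp (Subgroup.mem_center_iff.mpr fun g => h g _)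
    exact one_ne_zero this
  · obtain ⟨c, hc0, hc1⟩ : ∃ c : {c : F // c ^ q = c}, c.1 ≠ 0 ∧ c.1 ≠ 1 := by
      by_contra h
      push Not at h
      classical
      have hsub : Nat.card {c : F // c ^ q = c} ≤ Nat.card ({0, 1} : Finset F) :=
        Nat.card_le_card_of_injective (fun c => ⟨c.1, by
          by_cases h0 : c.1 = 0
          · simp [h0]
          · simp [h c h0]⟩) fun u v e => Subtype.ext (congrArg Subtype.val e :)
      rw [card_fixed hF, Nat.card_eq_fintype_card, Fintype.card_coe] at hsub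
      have := Finset.card_le_two (a := (0 : F)) (b := 1)
      omega
    refine ⟨mk hF 0 c.1 (zero_cond hF c.2), mk hF 0 1 (zero_cond hF (one_pow q)), fun e => hc1 ((mk_ext hF).mp e).2,
      fun e => hc0 ((mk_ext hF).mp (e.trans (mk_one hF).symm)).2, (sq_eq_one_iff hF _).mpr rfl,
      fun e => one_ne_zero ((mk_ext hF).mp (e.trans (mk_one hF).symm)).2, (sq_eq_one_iff hF _).mpr rfl⟩
  · let T : Subgroup Fˣ :=
      { carrier := {t | (t : F) ^ q = t}
        one_mem' := one_pow q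
        mul_mem' := fun {a b} ha hb => by
          show ((a * b : Fˣ) : F) ^ q = _
          rw [Units.val_mul, mul_pow, show (a : F) ^ q = a from ha, show (b : F) ^ q = b from hb]
        inv_mem' := fun {a} ha => by
          show ((a⁻¹ : Fˣ) : F) ^ q = _
          rw [Units.val_inv_eq_inv_val, inv_pow, show (a : F) ^ q = a from ha] }
    choose φ hφ using fun t : T => exists_scale hF (t := (t.1 : F)) t.2 t.1.ne_zero
    let ρ : T →* MulAut (U hF) := MonoidHom.mk' φ fun s t => MulEquiv.ext fun g => by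
      obtain ⟨x, y, h, rfl⟩ := mk_surj hF g
      show φ (s * t) _ = φ s (φ t _)
      rw [hφ, hφ, hφ, mk_ext hF]
      constructor <;> simp only [Subgroup.coe_mul, Units.val_mul] <;> ring
    haveI : IsCyclic T := inferInstance
    refine ⟨ρ.range, isCyclic_of_surjective ρ.rangeRestrict ρ.rangeRestrict_surjective, fun u v hu1 hu hv1 hv => ?_⟩
    obtain ⟨x, y, h, rfl⟩ := mk_surj hF u
    obtain ⟨x', y', h', rfl⟩ := mk_surj hF v
    obtain rfl := (sq_eq_one_iff hF h).mp hu
    obtain rfl := (sq_eq_one_iff hF h').mp hv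
    have hy := cond_zero hF h
    have hy' := cond_zero hF h'
    have hy0 : y ≠ 0 := fun e => hu1 (by rw [← mk_one hF, mk_ext hF]; exact ⟨rfl, e⟩)
    have hy0' : y' ≠ 0 := fun e => hv1 (by rw [← mk_one hF, mk_ext hF]; exact ⟨rfl, e⟩)
    obtain ⟨r, hr⟩ := FiniteField.isSquare_of_char_two (ringChar.eq F 2) (y' / y)
    have hr0 : r ≠ 0 := fun e => div_ne_zero hy0' hy0 (by rw [hr, e, zero_mul])
    have huniq : ∀ s : F, s * s = r * r → s = r := fun s e => CharTwo.add_eq_zero.mp (by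
      have h2 := two_eq_zero (F := F)
      exact mul_self_eq_zero.mp (by linear_combination e + (s * r + r * r) * h2))
    have hrq : r ^ q = r := huniq _ (by rw [← mul_pow, ← hr, div_pow, hy, hy'])
    refine ⟨⟨ρ ⟨Units.mk0 r hr0, hrq⟩, _, rfl⟩, ?_, ?_⟩
    · show φ _ (mk hF 0 y h) = _
      rw [hφ, mk_ext hF]
      refine ⟨mul_zero _, ?_⟩
      show r * r * y = y'
      rw [← hr, div_mul_cancel₀ _ hy0]
    · rintro ⟨k, s, rfl⟩ hk
      replace hk : φ s (mk hF 0 y h) = mk hF 0 y' h' := hk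
      rw [hφ, mk_ext hF] at hk
      have hs : ((s.1 : Fˣ) : F) = r := huniq _ (by rw [← hr, eq_div_iff hy0]; exact hk.2)
      exact Subtype.ext (congrArg ρ (Subtype.ext (Units.ext hs)))

omit [CharP F 2] in
theorem charTwo {n : ℕ} (hF : Fintype.card F = (2 ^ n) ^ 2) : CharP F 2 := by
  haveI : Fact (Nat.Prime 2) := ⟨Nat.prime_two⟩
  obtain ⟨p, k, hp, hc, hq, hk⟩ := exists_char hF
  have hd : p ∣ 2 ^ n := hq ▸ dvd_pow_self p hk.ne'
  rw [(Nat.prime_dvd_prime_iff_eq hp Nat.prime_two).mp (hp.dvd_of_dvd_pow hd)] at hc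
  exact hc

end CfsgLib.Unitary.SylowTwo
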